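import Groth.Agent.GenFreeRed.Core
import Mathlib

/-!
# Generic freeness over a reduced ring
-/

set_option autoImplicit false
set_option linter.style.haveILetI false

universe u

namespace Groth.Agent.GenFreeRed

open MvPolynomial

theorem awayMap_fp {R S : Type u} [CommRing R] [CommRing S] [Algebra R S] {n : ℕ}
    (φ : MvPolynomial (Fin n) R →ₐ[R] S) (hφ : Function.Surjective φ) {f : R}
    (K : Submodule (MvPolynomial (Fin n) R) (F R n 1)) (hK : ∀ v, v ∈ K ↔ φ (v 0) = 0) (P : Presented K f) :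
    (Localization.awayMap (algebraMap R S) f).FinitePresentation := by
  let Rf := Localization.Away f
  let g := algebraMap R S f
  let Sg := Localization.Away g
  let ι : Rf →+* Sg := Localization.awayMap (algebraMap R S) f
  let toS : MvPolynomial (Fin n) R →+* Sg := (algebraMap S Sg).comp φ.toRingHom
  letI : Algebra Rf Sg := ι.toAlgebra
  have hι : ∀ a, ι (algebraMap R Rf a) = algebraMap S Sg (algebraMap R S a) := fun a => IsLocalization.map_eq _ a
  let Φ : MvPolynomial (Fin n) Rf →ₐ[Rf] Sg := MvPolynomial.aeval fun i => toS (X i)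
  let mp := MvPolynomial.map (σ := Fin n) (algebraMap R Rf)
  have hΦ : ∀ q, Φ (mp q) = toS q := RingHom.congr_fun (MvPolynomial.ringHom_ext (f := Φ.toRingHom.comp mp) (g := toS)
    (fun a => by
      show Φ (mp (C a)) = toS (C a)
      rw [MvPolynomial.map_C, aeval_C]
      show ι (algebraMap R Rf a) = algebraMap S Sg (φ (C a))
      rw [hι, ← MvPolynomial.algebraMap_eq, φ.commutes])
    (fun i => by
      show Φ (mp (X i)) = toS (X i)
      rw [MvPolynomial.map_X, aeval_X]))
  have hclear : ∀ q : MvPolynomial (Fin n) Rf, ∃ (j : ℕ) (q₀ : MvPolynomial (Fin n) R),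
      C (algebraMap R Rf (f ^ j)) * q = mp q₀ := by
    intro q
    induction q using MvPolynomial.induction_on with
    | C a =>
      obtain ⟨⟨b, _, j, rfl⟩, h⟩ := IsLocalization.surj (Submonoid.powers f) a
      exact ⟨j, C b, by rw [MvPolynomial.map_C, ← h, map_mul, mul_comm]⟩
    | add p q hp hq =>
      obtain ⟨i, p₀, hp⟩ := hp
      obtain ⟨j, q₀, hq⟩ := hq
      refine ⟨i + j, C (f ^ j) * p₀ + C (f ^ i) * q₀, ?_⟩
      rw [map_add, map_mul, map_mul, MvPolynomial.map_C, MvPolynomial.map_C, ← hp, ← hq, pow_add, map_mul, map_mul]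
      ring
    | mul_X p i hp =>
      obtain ⟨j, p₀, hp⟩ := hp
      exact ⟨j, p₀ * X i, by rw [map_mul, MvPolynomial.map_X, ← hp, mul_assoc]⟩
  have hunit : ∀ j, IsUnit (C (algebraMap R Rf (f ^ j)) : MvPolynomial (Fin n) Rf) := fun j =>
    (IsLocalization.map_units Rf (⟨f ^ j, j, rfl⟩ : Submonoid.powers f)).map C
  have hsurj : Function.Surjective Φ := by
    intro z
    obtain ⟨⟨s, _, j, rfl⟩, h⟩ := IsLocalization.surj (Submonoid.powers g) z
    obtain ⟨q, rfl⟩ := hφ s
    obtain ⟨u, hu⟩ := hunit j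
    refine ⟨↑u⁻¹ * mp q, (IsLocalization.map_units Sg (⟨g ^ j, j, rfl⟩ : Submonoid.powers g)).mul_right_cancel ?_⟩
    rw [map_mul, hΦ]
    refine Eq.trans ?_ h.symm
    have h1 : algebraMap S Sg (g ^ j) = Φ (u : MvPolynomial (Fin n) Rf) := by
      rw [hu, aeval_C]
      show _ = ι (algebraMap R Rf (f ^ j))
      rw [hι, map_pow (algebraMap R S)]
    show Φ (↑u⁻¹) * toS q * algebraMap S Sg (g ^ j) = _
    rw [h1, mul_right_comm, ← map_mul, Units.inv_mul, map_one, one_mul]
    rfl
  have hker : RingHom.ker Φ.toRingHom = Ideal.span ((fun v : F R n 1 => mp (v 0)) '' (P.gs : Set (F R n 1))) := by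
    refine le_antisymm (fun q hq => ?_) (Ideal.span_le.mpr ?_)
    · obtain ⟨j, q₀, hq₀⟩ := hclear q
      have h0 : toS q₀ = 0 := by
        rw [← hΦ, ← hq₀, map_mul, show Φ q = 0 from hq, mul_zero]
      obtain ⟨⟨_, i, rfl⟩, hi⟩ := (IsLocalization.map_eq_zero_iff (Submonoid.powers g) Sg _).mp h0
      have hmem : (fun _ : Fin 1 => C (f ^ i) * q₀) ∈ K := by
        rw [hK, map_mul, ← MvPolynomial.algebraMap_eq, φ.commutes, map_pow]
        exact hi
      obtain ⟨l, hl⟩ := P.mem_span hmem
      have hl' : f ^ l • (C (f ^ i) * q₀) ∈ Ideal.span ((fun v : F R n 1 => v 0) '' (P.gs : Set (F R n 1))) := by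
        have := Submodule.mem_map_of_mem
          (f := (LinearMap.proj (R := MvPolynomial (Fin n) R) (φ := fun _ : Fin 1 => MvPolynomial (Fin n) R) 0)) hl
        rw [Submodule.map_span] at this
        exact this
      have h2 := Ideal.mem_map_of_mem mp hl'
      rw [Ideal.map_span, Set.image_image, MvPolynomial.smul_eq_C_mul, map_mul, map_mul, MvPolynomial.map_C,
        MvPolynomial.map_C, ← hq₀] at h2
      rwa [Ideal.unit_mul_mem_iff_mem _ (hunit l), Ideal.unit_mul_mem_iff_mem _ (hunit i),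
        Ideal.unit_mul_mem_iff_mem _ (hunit j)] at h2
    · rintro _ ⟨v, hv, rfl⟩
      show Φ (mp (v 0)) = 0
      rw [hΦ]
      show algebraMap S Sg (φ (v 0)) = 0
      rw [(hK v).mp (P.gs_le v hv), map_zero]
  have hfg : (RingHom.ker Φ.toRingHom).FG := by
    classical
    rw [hker]
    exact ⟨P.gs.image fun v => mp (v 0), by rw [Finset.coe_image]⟩
  exact Algebra.FinitePresentation.of_surjective hsurj hfg

theorem module_fp {R S M : Type u} [CommRing R] [CommRing S] [Algebra R S] [AddCommGroup M] [Module S M]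
    [Module R M] [IsScalarTower R S M] {n r : ℕ} (φ : MvPolynomial (Fin n) R →ₐ[R] S) (hφ : Function.Surjective φ)
    (μ : Fin r → M) {f : R} (K : Submodule (MvPolynomial (Fin n) R) (F R n r))
    (hK : ∀ v, v ∈ K ↔ ∑ i, φ (v i) • μ i = 0) (hμ : ∀ y : M, ∃ v : F R n r, ∑ i, φ (v i) • μ i = y)
    (P : Presented K f) :
    Module.FinitePresentation (Localization.Away (algebraMap R S f))
      (LocalizedModule (Submonoid.powers (algebraMap R S f)) M) := by
  classical
  let g := algebraMap R S f
  let Sg := Localization.Away g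
  let W := Submonoid.powers g
  let toM := LocalizedModule.mkLinearMap W M
  let Ψ : (Fin r → Sg) →ₗ[Sg] LocalizedModule W M := Fintype.linearCombination Sg fun i => toM (μ i)
  let em : F R n r → (Fin r → Sg) := fun v i => algebraMap S Sg (φ (v i))
  have hem : ∀ v, Ψ (em v) = toM (∑ i, φ (v i) • μ i) := fun v => by
    rw [Fintype.linearCombination_apply, map_sum]
    refine Finset.sum_congr rfl fun i _ => ?_
    rw [algebraMap_smul, map_smul]
  have hgu : ∀ j, IsUnit (algebraMap S Sg (g ^ j)) := fun j =>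
    IsLocalization.map_units Sg (⟨g ^ j, j, rfl⟩ : W)
  have hclear : ∀ x : Fin r → Sg, ∃ (j : ℕ) (v : F R n r), algebraMap S Sg (g ^ j) • x = em v := by
    intro x
    obtain ⟨⟨_, j, rfl⟩, hj⟩ := IsLocalization.exist_integer_multiples_of_finite W x
    choose s hs using hj
    choose v hv using fun i => hφ (s i)
    refine ⟨j, v, funext fun i => ?_⟩
    show algebraMap S Sg (g ^ j) * x i = algebraMap S Sg (φ (v i))
    rw [hv, hs, Algebra.smul_def]
  have hΨ : Function.Surjective Ψ := by
    intro z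
    obtain ⟨⟨y, ⟨_, j, rfl⟩⟩, rfl⟩ := IsLocalizedModule.mk'_surjective W toM z
    obtain ⟨v, hv⟩ := hμ y
    obtain ⟨u, hu⟩ := hgu j
    refine ⟨(↑u⁻¹ : Sg) • em v, ?_⟩
    rw [map_smul, hem, hv]
    refine (IsUnit.smul_left_cancel u.isUnit).mp ?_
    rw [smul_smul, Units.mul_inv, one_smul, hu, algebraMap_smul, Function.uncurry_apply_pair]
    exact (IsLocalizedModule.mk'_cancel' toM y (⟨g ^ j, j, rfl⟩ : W)).symm
  refine Module.finitePresentation_of_surjective Ψ hΨ ?_
  refine ⟨P.gs.image em, le_antisymm (Submodule.span_le.mpr ?_) fun x hx => ?_⟩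
  · intro x hx
    obtain ⟨v, hv, rfl⟩ := Finset.mem_image.mp hx
    show Ψ (em v) = 0
    rw [hem, (hK v).mp (P.gs_le v hv), map_zero]
  · obtain ⟨j, v, hv⟩ := hclear x
    have h0 : toM (∑ i, φ (v i) • μ i) = 0 := by
      rw [← hem, ← hv, map_smul, show Ψ x = 0 from hx, smul_zero]
    obtain ⟨⟨_, i, rfl⟩, hi⟩ := (IsLocalizedModule.eq_zero_iff W toM).mp h0
    have hmem : f ^ i • v ∈ K := by
      rw [hK]
      refine Eq.trans ?_ hi
      show _ = g ^ i • ∑ l, φ (v l) • μ l
      rw [Finset.smul_sum]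
      refine Finset.sum_congr rfl fun l _ => ?_
      rw [Pi.smul_apply, map_smul, Algebra.smul_def, map_pow, mul_smul]
    obtain ⟨l, hl⟩ := P.mem_span hmem
    have hspan : ∀ w ∈ Submodule.span (MvPolynomial (Fin n) R) (P.gs : Set (F R n r)),
        em w ∈ Submodule.span Sg (↑(P.gs.image em) : Set (Fin r → Sg)) := by
      intro w hw
      induction hw using Submodule.span_induction with
      | mem w hw => exact Submodule.subset_span (Finset.mem_image_of_mem em hw)
      | zero => simp only [em, Pi.zero_apply, map_zero]; exact zero_mem _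
      | add a b _ _ ha hb =>
        rw [show em (a + b) = em a + em b from funext fun i => by simp [em]]
        exact add_mem ha hb
      | smul c a _ ha =>
        rw [show em (c • a) = algebraMap S Sg (φ c) • em a from funext fun i => by simp [em]]
        exact Submodule.smul_mem _ _ ha
    have := hspan _ hl
    rw [show em (f ^ l • f ^ i • v) = algebraMap S Sg (g ^ l * g ^ i) • em v from funext fun m => by
      simp [em, g, Algebra.smul_def, mul_assoc], ← hv, smul_smul] at this
    exact (Submodule.smul_mem_iff_of_isUnit _ ((((hgu l).mul (hgu i)).mul (hgu j)) |> fun h => by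
      rwa [map_mul])).mp this

/-- The good elements of `S` and `M` over `R`. -/
def IsGood (R S M : Type u) [CommRing R] [CommRing S] [Algebra R S] [AddCommGroup M] [Module S M]
    [Module R M] (f : R) : Prop :=
  Module.Free (Localization.Away f) (LocalizedModule (Submonoid.powers f) M) ∧
    Module.Free (Localization.Away f) (LocalizedModule (Submonoid.powers f) S) ∧
    (Localization.awayMap (algebraMap R S) f).FinitePresentation ∧
    Module.FinitePresentation (Localization.Away (algebraMap R S f))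
      (LocalizedModule (Submonoid.powers (algebraMap R S f)) M)

/-- Below every nonzero element there is a good nonzero element. -/
theorem exists_isGood (R S : Type u) [CommRing R] [CommRing S]
    [Algebra R S] [Algebra.FiniteType R S] (M : Type u) [AddCommGroup M] [Module S M] [Module R M]
    [IsScalarTower R S M] [Module.Finite S M] (g : R) (hg : g ≠ 0) :
    ∃ c, g * c ≠ 0 ∧ IsGood R S M (g * c) := by
  obtain ⟨n, φ, hφ⟩ := Algebra.FiniteType.iff_quotient_mvPolynomial''.1 (‹Algebra.FiniteType R S›)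
  obtain ⟨r, μ, hμ⟩ := Module.Finite.exists_fin (R := S) (M := M)
  let πS : F R n 1 →ₗ[R] S := φ.toLinearMap.comp (LinearMap.proj 0)
  let πM : F R n r →ₗ[R] M :=
    ((Fintype.linearCombination S μ).restrictScalars R).comp (φ.toLinearMap.compLeft (Fin r))
  have hπM : ∀ v, πM v = ∑ i, φ (v i) • μ i := fun v => Fintype.linearCombination_apply S μ _
  let KS : Submodule (MvPolynomial (Fin n) R) (F R n 1) :=
    { carrier := {v | φ (v 0) = 0}
      add_mem' := fun {a b} (ha : φ (a 0) = 0) (hb : φ (b 0) = 0) => by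
        show φ (a 0 + b 0) = 0; rw [map_add, ha, hb, add_zero]
      zero_mem' := map_zero φ
      smul_mem' := fun c {x} (hx : φ (x 0) = 0) => by
        show φ (c * x 0) = 0; rw [map_mul, hx, mul_zero] }
  let KM : Submodule (MvPolynomial (Fin n) R) (F R n r) :=
    { carrier := {v | ∑ i, φ (v i) • μ i = 0}
      add_mem' := fun {a b} (ha : ∑ i, φ (a i) • μ i = 0) (hb : ∑ i, φ (b i) • μ i = 0) => by
        show ∑ i, φ (a i + b i) • μ i = 0
        simp [add_smul, Finset.sum_add_distrib, ha, hb]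
      zero_mem' := by show ∑ i, φ (0 : MvPolynomial (Fin n) R) • μ i = 0; simp
      smul_mem' := fun c {x} (hx : ∑ i, φ (x i) • μ i = 0) => by
        show ∑ i, φ (c * x i) • μ i = 0
        simp [mul_smul, ← Finset.smul_sum, hx] }
  obtain ⟨c₁, hc₁, hg₁⟩ := exists_good (K := KS) g hg
  obtain ⟨c₂, hc₂, hg₂⟩ := exists_good (K := KM) (g * c₁) hc₁
  obtain ⟨P₁⟩ := nonempty_presented hg₁
  obtain ⟨P₂⟩ := nonempty_presented hg₂
  have hπMs : ∀ y : M, ∃ v : F R n r, ∑ i, φ (v i) • μ i = y := fun y => by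
    obtain ⟨s, hs⟩ := (Submodule.mem_span_range_iff_exists_fun S).mp (hμ.ge (Submodule.mem_top (x := y)))
    choose v hv using fun i => hφ (s i)
    exact ⟨v, by simp [hv, hs]⟩
  refine ⟨c₁ * c₂, by rwa [← mul_assoc], ?_⟩
  rw [← mul_assoc]
  exact ⟨free_localized πM (fun y => (hπMs y).imp fun v hv => (hπM v).trans hv)
      (fun v => by rw [hπM]; rfl) P₂,
    free_localized πS (fun s => by obtain ⟨q, hq⟩ := hφ s; exact ⟨fun _ => q, hq⟩) (fun v => Iff.rfl) (P₁.mul c₂),
    awayMap_fp φ hφ KS (fun v => Iff.rfl) (P₁.mul c₂), module_fp φ hφ μ KM (fun v => Iff.rfl) hπMs P₂⟩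

/-- A dense open of good points, for a reduced base. -/
theorem exists_dense_open (R S : Type u) [CommRing R] [IsReduced R] [CommRing S]
    [Algebra R S] [Algebra.FiniteType R S] (M : Type u) [AddCommGroup M] [Module S M] [Module R M]
    [IsScalarTower R S M] [Module.Finite S M] :
    ∃ U : Set (PrimeSpectrum R), IsOpen U ∧ Dense U ∧ ∀ u ∈ U, ∃ f : R, f ∉ u.asIdeal ∧
      (PrimeSpectrum.basicOpen f : Set (PrimeSpectrum R)) ⊆ U ∧ IsGood R S M f := by
  let U : Set (PrimeSpectrum R) :=
    ⋃ f ∈ {f : R | IsGood R S M f}, (PrimeSpectrum.basicOpen f : Set (PrimeSpectrum R))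
  refine ⟨U, isOpen_biUnion fun f _ => (PrimeSpectrum.basicOpen f).isOpen, ?_, fun u hu => ?_⟩
  · rw [PrimeSpectrum.isTopologicalBasis_basic_opens.dense_iff]
    rintro _ ⟨g, rfl⟩ ⟨q, hq⟩
    have hg : g ≠ 0 := fun h => hq (by rw [h]; exact q.asIdeal.zero_mem)
    obtain ⟨c, hc, hgood⟩ := exists_isGood R S M g hg
    obtain ⟨P, hP, hPc⟩ : ∃ P : Ideal R, P.IsPrime ∧ g * c ∉ P := by
      by_contra h
      push Not at h
      exact hc (nilpotent_iff_mem_prime.mpr h).eq_zero
    exact ⟨⟨P, hP⟩, fun h => hPc (P.mul_mem_right c h), Set.mem_biUnion hgood hPc⟩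
  · obtain ⟨f, hf, hfu⟩ := Set.mem_iUnion₂.mp hu
    exact ⟨f, hfu, fun v hv => Set.mem_biUnion hf hv, hf⟩

end Groth.Agent.GenFreeRed
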