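import Mathlib

/-!
# Generic freeness over an arbitrary base, by leading terms

`K` is a submodule of `R[x]^r`.  `sigma K f` is the set of leading exponents of elements of `K` whose
leading coefficient is a power of `f`.  It grows when `f` is replaced by a multiple, and Dickson's
lemma bounds this growth: below every `g ≠ 0` some `f ≠ 0` has maximal `sigma`, and then the
monomials outside `sigma K f` form a basis of `R[x]^r / K` after inverting `f`, while finitely many
elements generate `K` after inverting `f`.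
-/

set_option autoImplicit false
set_option linter.style.haveILetI false

universe u

namespace Groth.Agent.GenFreeRed

open MvPolynomial

variable {R : Type u} [CommRing R] {n r : ℕ}

/-- An exponent: a component and a monomial. -/
abbrev Ex (n r : ℕ) := Fin r × (Fin n →₀ ℕ)

/-- The free module. -/
abbrev F (R : Type u) [CommRing R] (n r : ℕ) := Fin r → MvPolynomial (Fin n) R

/-- A coefficient. -/
noncomputable def cf (v : F R n r) (m : Ex n r) : R := (v m.1).coeff m.2

/-- The exponent, in the linearly ordered well-ordered type used for leading terms. -/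
noncomputable def key (m : Ex n r) : Fin r ×ₗ (MonomialOrder.lex (σ := Fin n)).syn :=
  toLex (m.1, (MonomialOrder.lex (σ := Fin n)).toSyn m.2)

theorem key_injective : Function.Injective (key (n := n) (r := r)) := fun a b h => by
  have h' := congrArg ofLex h
  simp only [key, ofLex_toLex, Prod.mk.injEq, EmbeddingLike.apply_eq_iff_eq] at h'
  exact Prod.ext h'.1 h'.2

theorem key_shift {a b : Ex n r} (h : key a ≤ key b) (d : Fin n →₀ ℕ) :
    key ((a.1, a.2 + d) : Ex n r) ≤ key ((b.1, b.2 + d) : Ex n r) := by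
  simp only [key, Prod.Lex.toLex_le_toLex, map_add] at h ⊢
  rcases h with h | ⟨h1, h2⟩
  · exact Or.inl h
  · exact Or.inr ⟨h1, add_le_add h2 le_rfl⟩

/-- `m` bounds the exponents of `v`. -/
def Below (v : F R n r) (m : Ex n r) : Prop := ∀ e, cf v e ≠ 0 → key e ≤ key m

theorem exists_top {v : F R n r} (hv : v ≠ 0) : ∃ m, cf v m ≠ 0 ∧ Below v m := by
  classical
  let s : Finset (Ex n r) := Finset.univ.biUnion fun i => (v i).support.image (Prod.mk i)
  have hs : ∀ e, e ∈ s ↔ cf v e ≠ 0 := fun ⟨i, e⟩ => by
    simp [s, cf, MvPolynomial.mem_support_iff]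
  have hne : s.Nonempty := by
    by_contra h
    refine hv (funext fun i => MvPolynomial.ext _ _ fun e => ?_)
    by_contra h'
    exact h ⟨(i, e), (hs _).2 (by simpa [cf] using h')⟩
  obtain ⟨m, hm, hmax⟩ := s.exists_max_image key hne
  exact ⟨m, (hs m).1 hm, fun e he => hmax e ((hs e).2 he)⟩

theorem cf_add (v w : F R n r) (e : Ex n r) : cf (v + w) e = cf v e + cf w e := MvPolynomial.coeff_add _ _ _
theorem cf_sub (v w : F R n r) (e : Ex n r) : cf (v - w) e = cf v e - cf w e := by simp [cf]
theorem cf_zero (e : Ex n r) : cf (0 : F R n r) e = 0 := MvPolynomial.coeff_zero _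
theorem cf_smul (a : R) (v : F R n r) (e : Ex n r) : cf (a • v) e = a * cf v e := MvPolynomial.coeff_smul _ _ _

/-- The standard vector of an exponent. -/
noncomputable def sv (m : Ex n r) (a : R) : F R n r := Pi.single m.1 (monomial m.2 a)

theorem cf_sv (m : Ex n r) (a : R) (e : Ex n r) : cf (sv m a) e = if e = m then a else 0 := by
  classical
  obtain ⟨i, d⟩ := m
  obtain ⟨j, d'⟩ := e
  by_cases hij : j = i
  · subst hij
    simp [cf, sv, MvPolynomial.coeff_monomial, eq_comm]
  · simp [cf, sv, Pi.single_eq_of_ne hij, hij]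

/-- Multiplication by a monomial. -/
noncomputable def shift (d : Fin n →₀ ℕ) (v : F R n r) : F R n r := (monomial d (1 : R)) • v

theorem cf_shift_add (d : Fin n →₀ ℕ) (v : F R n r) (m : Ex n r) :
    cf (shift d v) ((m.1, m.2 + d) : Ex n r) = cf v m := by
  show MvPolynomial.coeff (m.2 + d) (monomial d (1 : R) * v m.1) = _
  rw [MvPolynomial.coeff_monomial_mul', if_pos le_add_self, add_tsub_cancel_right, one_mul]
  rfl

theorem below_shift {v : F R n r} {m : Ex n r} (h : Below v m) (d : Fin n →₀ ℕ) :
    Below (shift d v) ((m.1, m.2 + d) : Ex n r) := by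
  intro e he
  obtain ⟨i, e⟩ := e
  have he' : MvPolynomial.coeff e (monomial d (1 : R) * v i) ≠ 0 := he
  rw [MvPolynomial.coeff_monomial_mul'] at he'
  obtain ⟨hde, hne⟩ := ite_ne_right_iff.mp he'
  have := key_shift (h ((i, e - d) : Ex n r) (by simpa [cf] using hne)) d
  rwa [show ((((i, e - d) : Ex n r).1, ((i, e - d) : Ex n r).2 + d) : Ex n r) = (i, e) by
    rw [tsub_add_cancel_of_le hde]] at this

theorem below_smul {v : F R n r} {m : Ex n r} (h : Below v m) (a : R) : Below (a • v) m := fun e he =>
  h e fun h0 => he (by rw [cf_smul, h0, mul_zero])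

theorem below_sv (m : Ex n r) (a : R) : Below (sv m a) m := fun e he => by
  rw [cf_sv] at he
  rw [(ite_ne_right_iff.mp he).1]

theorem below_sub {v w : F R n r} {m : Ex n r} (hv : Below v m) (hw : Below w m) : Below (v - w) m :=
  fun e he => by
    by_cases h : cf v e = 0
    · exact hw e fun h' => he (by rw [cf_sub, h, h', sub_zero])
    · exact hv e h

/-- Induction on the leading exponent. -/
theorem top_induction {P : F R n r → Prop} (zero : P 0)
    (step : ∀ v m, cf v m ≠ 0 → Below v m →
      (∀ w, Below w m → cf w m = 0 → P w) → P v) (v : F R n r) : P v := by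
  have key' : ∀ k, ∀ w : F R n r, (∀ e, cf w e ≠ 0 → key e < k) → P w := by
    intro k
    induction k using WellFoundedLT.induction with
    | _ k ih =>
      intro w hw
      rcases eq_or_ne w 0 with rfl | hw0
      · exact zero
      obtain ⟨m, hm, hb⟩ := exists_top hw0
      refine step w m hm hb fun w' hb' h0 => ih (key m) (hw m hm) w' fun e he => lt_of_le_of_ne (hb' e he) fun heq =>
        he (key_injective heq ▸ h0)
  rcases eq_or_ne v 0 with rfl | hv0
  · exact zero
  obtain ⟨m, hm, hb⟩ := exists_top hv0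
  exact step v m hm hb fun w hb' h0 => key' (key m) w fun e he =>
    lt_of_le_of_ne (hb' e he) fun heq => he (key_injective heq ▸ h0)

variable (K : Submodule (MvPolynomial (Fin n) R) (F R n r))

/-- Leading exponents with leading coefficient a power of `f`. -/
def sigma (f : R) : Set (Ex n r) :=
  {m | ∃ k ∈ K, ∃ j : ℕ, cf k m = f ^ j ∧ Below k m}

/-- Divisibility of exponents. -/
def Dvd' (a b : Ex n r) : Prop := a.1 = b.1 ∧ a.2 ≤ b.2

theorem wqo : WellQuasiOrdered (Dvd' (n := n) (r := r)) :=
  (Finite.wellQuasiOrdered (Eq : Fin r → Fin r → Prop)).prod wellQuasiOrdered_le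

variable {K}

theorem smul_mem' (a : R) {k : F R n r} (hk : k ∈ K) : a • k ∈ K := K.smul_of_tower_mem a hk

theorem sigma_dvd' {f : R} {a b : Ex n r} (h : Dvd' a b) (ha : a ∈ sigma K f) : b ∈ sigma K f := by
  obtain ⟨k, hk, j, hj, hb⟩ := ha
  obtain ⟨d, hab⟩ : ∃ d, ((a.1, a.2 + d) : Ex n r) = b :=
    ⟨b.2 - a.2, Prod.ext h.1 (add_tsub_cancel_of_le h.2)⟩
  subst hab
  exact ⟨shift d k, K.smul_mem _ hk, j, by rw [cf_shift_add, hj], below_shift hb _⟩

theorem sigma_mono (f c : R) : sigma K f ⊆ sigma K (f * c) := by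
  rintro m ⟨k, hk, j, hj, hb⟩
  exact ⟨c ^ j • k, smul_mem' _ hk, j, by rw [cf_smul, hj, mul_pow, mul_comm], below_smul hb _⟩

variable (K) in
/-- The good elements. -/
def Good (f : R) : Prop := ∀ c : R, f * c ≠ 0 → sigma K (f * c) ⊆ sigma K f

theorem exists_good (g : R) (hg : g ≠ 0) : ∃ c, g * c ≠ 0 ∧ Good K (g * c) := by
  by_contra h
  push Not at h
  have h' : ∀ c, g * c ≠ 0 → ∃ c', g * c' ≠ 0 ∧ sigma K (g * c) ⊂ sigma K (g * c') := fun c hc => by
    obtain ⟨d, hd, hns⟩ : ∃ d, g * c * d ≠ 0 ∧ ¬ sigma K (g * c * d) ⊆ sigma K (g * c) := by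
      have := h c hc
      simp only [Good, not_forall] at this
      obtain ⟨d, hd, hns⟩ := this
      exact ⟨d, hd, hns⟩
    refine ⟨c * d, by rwa [← mul_assoc], ?_⟩
    rw [← mul_assoc]
    exact ⟨sigma_mono _ _, hns⟩
  choose! nx hnx hsub using h'
  let seq : ℕ → R := fun i => Nat.rec 1 (fun _ c => nx c) i
  have hne : ∀ i, g * seq i ≠ 0 := fun i => by
    induction i with
    | zero => simpa [seq] using hg
    | succ i ih => exact hnx _ ih
  have hsucc : ∀ i, sigma K (g * seq i) ⊂ sigma K (g * seq (i + 1)) := fun i => hsub _ (hne i)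
  choose x hx hx' using fun i => Set.exists_of_ssubset (hsucc i)
  obtain ⟨i, j, hij, hd⟩ := wqo x
  have hmono : Monotone fun i => sigma K (g * seq i) := monotone_nat_of_le_succ fun i => (hsucc i).subset
  exact hx' j (hmono hij (sigma_dvd' hd (hx i)))

/-- What inverting a good element achieves: `std` is a set of standard exponents, `gs` generators. -/
structure Presented (K : Submodule (MvPolynomial (Fin n) R) (F R n r)) (f : R) where
  std : Set (Ex n r)
  gs : Finset (F R n r)
  gs_le : ∀ x ∈ gs, x ∈ K
  indep : ∀ k ∈ K, (∀ e, cf k e ≠ 0 → e ∈ std) → ∃ j : ℕ, f ^ j • k = 0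
  gen : ∀ v : F R n r, ∃ (j : ℕ) (w : F R n r), (∀ e, cf w e ≠ 0 → e ∈ std) ∧
    f ^ j • v - w ∈ Submodule.span (MvPolynomial (Fin n) R) (gs : Set (F R n r))

/-- Presentations persist under multiples. -/
noncomputable def Presented.mul {f : R} (P : Presented K f) (c : R) : Presented K (f * c) where
  std := P.std
  gs := P.gs
  gs_le := P.gs_le
  indep k hk h := by
    obtain ⟨j, hj⟩ := P.indep k hk h
    exact ⟨j, by rw [mul_pow, mul_comm, mul_smul, hj, smul_zero]⟩
  gen v := by
    obtain ⟨j, w, hw, h⟩ := P.gen v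
    refine ⟨j, c ^ j • w, fun e he => hw e fun h0 => he (by rw [cf_smul, h0, mul_zero]), ?_⟩
    rw [mul_pow, mul_comm, mul_smul, ← smul_sub]
    exact Submodule.smul_of_tower_mem _ _ h

theorem exists_finite_dom (s : Set (Ex n r)) : ∃ T : Finset (Ex n r), ↑T ⊆ s ∧ ∀ m ∈ s, ∃ t ∈ T, Dvd' t m := by
  by_contra h
  push Not at h
  obtain ⟨x, hx, hx'⟩ := exists_seq_of_forall_finset_exists (· ∈ s) (fun a b => ¬ Dvd' a b) fun T hT => h T hT
  obtain ⟨i, j, hij, hd⟩ := wqo x
  exact hx' i j hij hd

theorem nonempty_presented {f : R} (hf : Good K f) : Nonempty (Presented K f) := by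
  classical
  have hbad : ∀ k ∈ K, ∀ m, cf k m ≠ 0 → Below k m → m ∉ sigma K f → f * cf k m = 0 := by
    intro k hk m _ hb hm
    by_contra h
    exact hm (hf _ h ⟨f • k, smul_mem' _ hk, 1, by rw [cf_smul, pow_one], below_smul hb _⟩)
  obtain ⟨T, hT, hdom⟩ := exists_finite_dom (sigma K f)
  have hT' : ∀ t : Ex n r, ∃ k : F R n r, ∃ j : ℕ, t ∈ T → k ∈ K ∧ cf k t = f ^ j ∧ Below k t := fun t => by
    by_cases ht : t ∈ T
    · obtain ⟨k, hk, j, h1, h2⟩ := hT ht
      exact ⟨k, j, fun _ => ⟨hk, h1, h2⟩⟩
    · exact ⟨0, 0, fun h => absurd h ht⟩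
  choose kt jt hk3 using hT'
  have hkt := fun t ht => (hk3 t ht).1
  have hjt := fun {t} ht => (hk3 t ht).2.1
  have hbt := fun {t} ht => (hk3 t ht).2.2
  refine ⟨⟨(sigma K f)ᶜ, T.image kt, ?_, ?_, ?_⟩⟩
  · intro x hx
    obtain ⟨t, ht, rfl⟩ := Finset.mem_image.mp hx
    exact hkt t ht
  · intro k
    induction k using top_induction with
    | zero => exact fun _ _ => ⟨0, smul_zero _⟩
    | step k m hm hb ih =>
      intro hk hstd
      have h0 := hbad k hk m hm hb (hstd m hm)
      obtain ⟨j, hj⟩ := ih (f • k) (below_smul hb _) (by rw [cf_smul, h0]) (smul_mem' _ hk)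
        fun e he => hstd e fun h1 => he (by rw [cf_smul, h1, mul_zero])
      exact ⟨j + 1, by rw [pow_succ, mul_smul, hj]⟩
  · intro v
    induction v using top_induction with
    | zero => exact ⟨0, 0, fun e he => absurd (cf_zero e) he, by simp⟩
    | step v m hm hb ih =>
      by_cases hmσ : m ∈ sigma K f
      · obtain ⟨t, ht, hd⟩ := hdom m hmσ
        let d := m.2 - t.2
        have htm : ((t.1, t.2 + d) : Ex n r) = m := Prod.ext hd.1 (add_tsub_cancel_of_le hd.2)
        let g := cf v m • shift d (kt t)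
        have hgm : cf g m = cf v m * f ^ jt t := by
          rw [cf_smul]
          congr 1
          rw [← hjt ht, ← htm, cf_shift_add]
        have hgb : Below g m := below_smul (htm ▸ below_shift (hbt ht) d) _
        obtain ⟨j, w, hw, hspan⟩ := ih (f ^ jt t • v - g) (below_sub (below_smul hb _) hgb)
          (by rw [cf_sub, cf_smul, hgm, mul_comm, sub_self])
        refine ⟨j + jt t, w, hw, ?_⟩
        have hg : f ^ j • g ∈ Submodule.span (MvPolynomial (Fin n) R) (↑(T.image kt) : Set (F R n r)) :=
          Submodule.smul_of_tower_mem _ _ (Submodule.smul_of_tower_mem _ _ (Submodule.smul_mem _ _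
            (Submodule.subset_span (Finset.mem_image_of_mem kt ht))))
        convert add_mem hspan hg using 1
        rw [smul_sub, smul_smul, ← pow_add]
        abel
      · obtain ⟨j, w, hw, hspan⟩ := ih (v - sv m (cf v m)) (below_sub hb (below_sv m _))
          (by rw [cf_sub, cf_sv, if_pos rfl, sub_self])
        refine ⟨j, w + f ^ j • sv m (cf v m), fun e he => ?_, ?_⟩
        · by_cases hwe : cf w e = 0
          · rw [cf_add, hwe, zero_add, cf_smul, cf_sv] at he
            by_cases hem : e = m
            · exact hem ▸ hmσ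
            · rw [if_neg hem, mul_zero] at he
              exact absurd rfl he
          · exact hw e hwe
        · convert hspan using 1
          rw [smul_sub]
          abel

theorem Presented.mem_span {f : R} (P : Presented K f) {k : F R n r} (hk : k ∈ K) :
    ∃ j : ℕ, f ^ j • k ∈ Submodule.span (MvPolynomial (Fin n) R) (P.gs : Set (F R n r)) := by
  obtain ⟨j, w, hw, h⟩ := P.gen k
  have hle : Submodule.span (MvPolynomial (Fin n) R) (P.gs : Set (F R n r)) ≤ K :=
    Submodule.span_le.mpr P.gs_le
  have hwK : w ∈ K := by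
    have := sub_mem (smul_mem' (f ^ j) hk) (hle h)
    rwa [sub_sub_cancel] at this
  obtain ⟨i, hi⟩ := P.indep w hwK hw
  refine ⟨i + j, ?_⟩
  have := Submodule.smul_of_tower_mem (Submodule.span (MvPolynomial (Fin n) R) (P.gs : Set (F R n r))) (f ^ i) h
  rwa [smul_sub, hi, sub_zero, smul_smul, ← pow_add] at this

/-- The module presented by `K` is free after inverting `f`. -/
theorem free_localized {f : R} {M : Type u} [AddCommGroup M] [Module R M]
    (π : F R n r →ₗ[R] M) (hπ : Function.Surjective π) (hker : ∀ v, π v = 0 ↔ v ∈ K) (P : Presented K f) :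
    Module.Free (Localization.Away f) (LocalizedModule (Submonoid.powers f) M) := by
  classical
  let S := Submonoid.powers f
  let θ : (↥P.std →₀ R) →ₗ[R] F R n r :=
    Finsupp.linearCombination R fun e : P.std => sv e.1 (1 : R)
  have hθ : ∀ (x : ↥P.std →₀ R) (e : Ex n r), cf (θ x) e = if he : e ∈ P.std then x ⟨e, he⟩ else 0 := by
    intro x e
    induction x using Finsupp.induction_linear with
    | zero => simp [cf_zero]
    | add x y hx hy => rw [map_add, cf_add, hx, hy]; split <;> simp
    | single a b =>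
      rw [Finsupp.linearCombination_single, cf_smul, cf_sv]
      by_cases he : e ∈ P.std
      · rw [dif_pos he, Finsupp.single_apply]
        by_cases hea : e = a.1
        · subst hea; simp
        · rw [if_neg hea, if_neg (fun h => hea (congrArg Subtype.val h).symm), mul_zero]
      · rw [dif_neg he, if_neg (fun h : e = a.1 => he (by rw [h]; exact a.2)), mul_zero]
  let ψ : (↥P.std →₀ R) →ₗ[R] M := π.comp θ
  let loc := LocalizedModule.mkLinearMap S (↥P.std →₀ R)
  let locM := LocalizedModule.mkLinearMap S M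
  let Ψ := IsLocalizedModule.map S loc locM ψ
  have hinj : Function.Injective Ψ := by
    refine (injective_iff_map_eq_zero _).mpr fun z hz => ?_
    obtain ⟨⟨x, s⟩, rfl⟩ := IsLocalizedModule.mk'_surjective S loc z
    simp only [Function.uncurry_apply_pair] at hz ⊢
    rw [IsLocalizedModule.map_mk', IsLocalizedModule.mk'_eq_zero'] at hz
    obtain ⟨⟨_, j, rfl⟩, hj⟩ := hz
    have hk : θ (f ^ j • x) ∈ K := by
      rw [← hker, map_smul, map_smul]; exact hj
    obtain ⟨i, hi⟩ := P.indep _ hk fun e he => by
      rw [hθ] at he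
      by_contra h
      exact he (dif_neg h)
    rw [IsLocalizedModule.mk'_eq_zero']
    refine ⟨⟨f ^ (i + j), i + j, rfl⟩, Finsupp.ext fun e => ?_⟩
    have h1 := congrArg (fun v => cf v e.1) hi
    simp only [cf_smul, cf_zero, hθ, dif_pos e.2, Finsupp.smul_apply, smul_eq_mul] at h1
    show f ^ (i + j) * x e = 0
    rw [pow_add, mul_assoc]; exact h1
  have hsurj : Function.Surjective Ψ := by
    intro z
    obtain ⟨⟨y, s⟩, rfl⟩ := IsLocalizedModule.mk'_surjective S locM z
    obtain ⟨v, rfl⟩ := hπ y
    obtain ⟨j, w, hw, h⟩ := P.gen v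
    have h' : π (f ^ j • v - w) = 0 := (hker _).mpr (Submodule.span_le.mpr P.gs_le h)
    have hfin : {e : ↥P.std | cf w e.1 ≠ 0}.Finite := by
      refine Set.Finite.preimage Subtype.val_injective.injOn (s := {e | cf w e ≠ 0}) ?_
      refine Set.Finite.subset (Finset.univ.biUnion fun i => (w i).support.image (Prod.mk i)).finite_toSet ?_
      rintro ⟨i, e⟩ he
      simpa [MvPolynomial.mem_support_iff, cf] using he
    let x : ↥P.std →₀ R := Finsupp.onFinset hfin.toFinset (fun e => cf w e.1) fun e he => by simpa using he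
    have hx : θ x = w := funext fun i => MvPolynomial.ext _ _ fun e => by
      show cf (θ x) (i, e) = cf w (i, e)
      rw [hθ]
      by_cases he : (i, e) ∈ P.std
      · rw [dif_pos he]; rfl
      · rw [dif_neg he]
        by_contra h0
        exact he (hw _ (Ne.symm h0))
    refine ⟨IsLocalizedModule.mk' loc x (⟨f ^ j, j, rfl⟩ * s), ?_⟩
    rw [IsLocalizedModule.map_mk']
    show IsLocalizedModule.mk' locM (π (θ x)) _ = IsLocalizedModule.mk' locM (π v) s
    rw [hx, show π w = f ^ j • π v by rw [← map_smul]; exact (sub_eq_zero.mp (by rw [← map_sub]; exact h')).symm]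
    exact IsLocalizedModule.mk'_cancel_left (f := locM) (π v) (⟨f ^ j, j, rfl⟩ : S) s
  haveI : Module.Free (Localization.Away f) (LocalizedModule S (↥P.std →₀ R)) :=
    @Module.free_of_isLocalizedModule R (↥P.std →₀ R) _ _ _ (Localization.Away f) (LocalizedModule S (↥P.std →₀ R))
      _ _ _ _ _ _ S loc _ _ _
  exact Module.Free.of_equiv (LinearEquiv.extendScalarsOfIsLocalization S (Localization.Away f)
    (LinearEquiv.ofBijective Ψ ⟨hinj, hsurj⟩))

end Groth.Agent.GenFreeRed
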